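/-
Generators of a transitive group of degree eleven and order 7920, in coordinates of a given action.
-/
import Cfsg.Agent.Lib.SimpleM11.Recognition

set_option autoImplicit false
set_option linter.style.haveILetI false
set_option linter.unusedSectionVars false

namespace CfsgLib.DegreeEleven

open Cfsg CfsgSimpleM11
open scoped Pointwise

universe u
variable {G : Type u} [Group G] [Fintype G]

/-- The three generators in normal form. -/
theorem exists_gens' (hG : IsM11 G) {f : G →* Equiv.Perm (ZMod 11)} (hf : Function.Injective f) {a : G}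
    (ha : orderOf a = 11) (hfa : ⇑(f a) = shiftFun) :
    ∃ (b c : G) (i : Fin 10), orderOf b = 5 ∧
      b ∈ Subgroup.normalizer ((Subgroup.zpowers a : Subgroup G) : Set G) ∧
      ⇑(f b) = tripleFun ∧ ⇑(f c) = candFun i := by
  classical
  haveI : Fact (Nat.Prime 5) := ⟨by norm_num⟩
  obtain ⟨g, hg⟩ := isConj_iff.mp (exists_conj_three hG ha)
  have hfg : ∀ x, f g (x + 1) = f g x + 3 := by
    intro x
    have h1 : f g * f a = f a ^ 3 * f g := by rw [← map_pow, ← map_mul, ← map_mul, ← hg, inv_mul_cancel_right]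
    have h2 := congrArg (fun p : Equiv.Perm (ZMod 11) => p x) h1
    simp only [Equiv.Perm.mul_apply, pow_succ, pow_zero, one_mul, hfa, shiftFun] at h2
    rw [h2]
    ring
  have hlin : ∀ n : ℕ, f g (n : ZMod 11) = 3 * (n : ZMod 11) + f g 0 := by
    intro n
    induction n with
    | zero => simp
    | succ n ih => push_cast; rw [hfg, ih]; ring
  set m := (-(f g 0)).val with hm
  set b := a ^ m * g with hb
  have hsh : ∀ (k : ℕ) (x : ZMod 11), (f a ^ k) x = x + k := by
    intro k x
    induction k with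
    | zero => simp
    | succ k ih => rw [pow_succ', Equiv.Perm.mul_apply, ih, hfa]; simp only [shiftFun]; push_cast; ring
  have hfb : ⇑(f b) = tripleFun := by
    funext x
    rw [hb, map_mul, map_pow, Equiv.Perm.mul_apply, hsh]
    conv_lhs => rw [← ZMod.natCast_zmod_val x, hlin, ZMod.natCast_zmod_val, hm, ZMod.natCast_zmod_val]
    simp [tripleFun]
  have hbo : orderOf b = 5 := by
    refine orderOf_eq_prime (hf ?_) ?_
    · rw [map_one, map_pow]
      refine Equiv.ext fun x => ?_
      rw [Equiv.Perm.coe_pow, hfb, Equiv.Perm.one_apply]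
      exact (by decide : ∀ x : ZMod 11, tripleFun^[5] x = x) x
    · intro e
      have := congrArg (fun p : Equiv.Perm (ZMod 11) => p 1) (congrArg f e)
      simp only [map_one, hfb, Equiv.Perm.one_apply] at this
      exact (by decide : tripleFun 1 ≠ 1) this
  have hbN : b ∈ Subgroup.normalizer ((Subgroup.zpowers a : Subgroup G) : Set G) :=
    mul_mem (Subgroup.pow_mem _ (Subgroup.le_normalizer (Subgroup.mem_zpowers a)) _) (mem_norm_of_conj_pow hg)
  obtain ⟨c0, hc0⟩ := isConj_iff.mp (five_conj_two hG hbo)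
  have hphi : ∀ x, f c0 (3 * x) = 9 * f c0 x := by
    intro x
    have h1 : f c0 * f b = f b ^ 2 * f c0 := by rw [← map_pow, ← map_mul, ← map_mul, ← hc0, inv_mul_cancel_right]
    have h2 := congrArg (fun p : Equiv.Perm (ZMod 11) => p x) h1
    simp only [Equiv.Perm.mul_apply, pow_two, hfb, tripleFun] at h2
    rw [h2]
    ring
  have hphik : ∀ (k : ℕ) (x : ZMod 11), f c0 (3 ^ k * x) = 9 ^ k * f c0 x := by
    intro k x
    induction k with
    | zero => simp
    | succ k ih => rw [pow_succ', mul_assoc, hphi, ih, pow_succ']; ring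
  have h0 : f c0 0 = 0 := by
    have := hphi 0
    rw [mul_zero] at this
    exact (by decide : ∀ v : ZMod 11, v = 9 * v → v = 0) _ this
  have hne : ∀ x, x ≠ 0 → f c0 x ≠ 0 := fun x hx h => hx ((f c0).injective (h.trans h0.symm))
  obtain ⟨⟨n, hn5⟩, hn⟩ := (by decide :
      ∀ v : ZMod 11, v ≠ 0 → ∃ n : Fin 5, 9 ^ n.val * v ∈ ([1, 2] : List (ZMod 11))) _ (hne 1 (by decide))
  have hfc : ∀ x, f (c0 * b ^ n) x = f c0 (3 ^ n * x) := by
    intro x
    rw [map_mul, map_pow, Equiv.Perm.mul_apply]
    congr 1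
    have : ∀ n : ℕ, (f b ^ n) x = 3 ^ n * x := by
      intro n
      induction n with
      | zero => simp
      | succ n ih => rw [pow_succ', Equiv.Perm.mul_apply, ih, hfb]; simp only [tripleFun]; ring
    exact this n
  set c := c0 * b ^ n with hc
  have hck : ∀ (k : ℕ) (x : ZMod 11), f c (3 ^ k * x) = 9 ^ k * f c x := by
    intro k x
    rw [hfc, hfc, mul_left_comm, hphik]
  have hc1 : f c 1 ∈ ([1, 2] : List (ZMod 11)) := by rw [hfc, hphik]; exact hn
  have hz : ∀ k < 5, f c 2 ≠ 9 ^ k * f c 1 := by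
    intro k hk h
    have e := (f c).injective (h.trans (hck k 1).symm)
    rw [mul_one] at e
    exact (by decide : ∀ k < 5, (2 : ZMod 11) ≠ 3 ^ k) k hk e
  have hc20 : f c 2 ≠ 0 := by
    rw [hfc, hphik]
    exact fun h => (mul_ne_zero_eleven n (hne 2 (by decide))) h
  obtain ⟨i, hi0, hi⟩ := cand_complete _ hc1 _ hc20 hz
  refine ⟨b, c, i, hbo, hbN, hfb, funext fun x => ?_⟩
  rcases point_cases x with rfl | ⟨k, hk, rfl⟩ | ⟨k, hk, rfl⟩
  · rw [hi0, hfc, mul_zero, h0]
  · rw [(hi k hk).1]
    conv_lhs => rw [← mul_one ((3 : ZMod 11) ^ k)]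
    exact hck k 1
  · rw [(hi k hk).2]
    exact hck k 2

/-- A simple group of order 7920 is the automorphism group of a Steiner system. -/
theorem range_eq_aut (hG : IsM11 G) {f : G →* Equiv.Perm (ZMod 11)} (hf : Function.Injective f) {a : G}
    (ha : orderOf a = 11) (hfa : ⇑(f a) = shiftFun) :
    ∃ (i : Fin 10) (L : List ℕ) (c : G), ((i = 1 ∧ L = blocks1) ∨ (i = 3 ∧ L = blocks3)) ∧
      IsSteinerSystem 4 5 (blockSet L) ∧ f.range = setSystemAut (blockSet L) ∧ ⇑(f c) = candFun i := by
  classical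
  haveI : Fact (Nat.Prime 11) := ⟨by norm_num⟩
  obtain ⟨b, c, i, hbo, hbN, hfb, hfc⟩ := exists_gens' hG hf ha hfa
  have hbad : ∀ w : G, ∀ g, ⇑(f w) = g → ∀ o, (o = 14 ∨ o = 21 ∨ o = 28) → (∀ x, g^[o] x = x) →
      (∃ x, g^[o / 7] x ≠ x) → False := by
    intro w g hg o ho h1 h2
    have h7 := seven_dvd_of_iterate (f w) g hg ho h1 h2
    rw [orderOf_injective f hf] at h7
    have := h7.trans (orderOf_dvd_natCard w)
    rw [card_eq hG] at this
    norm_num at this
  have key : ∀ (L : List ℕ) (w : G) (g : ZMod 11 → ZMod 11), IsSteinerSystem 4 5 (blockSet L) →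
      (∀ h ∈ ([shiftFun, tripleFun, candFun i] : List (ZMod 11 → ZMod 11)),
        L.all (fun m => L.contains (imgMask (fun x => (h (x : ZMod 11)).val) m 11)) = true) →
      w ∈ Subgroup.closure {a, b, c} → ⇑(f w) = g → (∀ x, g^[8] x = x) → (∃ x, g^[4] x ≠ x) →
      f.range = setSystemAut (blockSet L) := by
    intro L w g hS hinv hw hg h1 h2
    set H := Subgroup.closure ({a, b, c} : Set G) with hH
    have haH : a ∈ H := Subgroup.subset_closure (by simp)
    have hbH : b ∈ H := Subgroup.subset_closure (by simp)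
    have htop : H = ⊤ := by
      have d11 : 11 ∣ Nat.card H := ha ▸ Subgroup.orderOf_dvd_natCard H haH
      have d5 : 5 ∣ Nat.card H := hbo ▸ Subgroup.orderOf_dvd_natCard H hbH
      have d8 : 8 ∣ Nat.card H := by
        have h8 := eight_of_iterate (f w) g hg h1 h2
        rw [orderOf_injective f hf] at h8
        have := Subgroup.orderOf_dvd_natCard H hw
        rwa [h8] at this
      have hN : Subgroup.normalizer ((Subgroup.zpowers a : Subgroup G) : Set G) ≤ H := by
        have hle : Subgroup.zpowers a ⊔ Subgroup.zpowers b ≤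
            Subgroup.normalizer ((Subgroup.zpowers a : Subgroup G) : Set G) :=
          sup_le Subgroup.le_normalizer (Subgroup.zpowers_le.mpr hbN)
        have h55 : 55 ∣ Nat.card ↥(Subgroup.zpowers a ⊔ Subgroup.zpowers b) := by
          have e1 := Subgroup.card_dvd_of_le (le_sup_left : Subgroup.zpowers a ≤ Subgroup.zpowers a ⊔ Subgroup.zpowers b)
          have e2 := Subgroup.card_dvd_of_le (le_sup_right : Subgroup.zpowers b ≤ Subgroup.zpowers a ⊔ Subgroup.zpowers b)
          rw [Nat.card_zpowers, ha] at e1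
          rw [Nat.card_zpowers, hbo] at e2
          exact Nat.Coprime.mul_dvd_of_dvd_of_dvd (show Nat.Coprime 11 5 by norm_num) e1 e2
        rw [← Subgroup.eq_of_le_of_card_ge hle (by rw [norm11 hG ha]; exact Nat.le_of_dvd Nat.card_pos h55)]
        exact sup_le (Subgroup.zpowers_le.mpr haH) (Subgroup.zpowers_le.mpr hbH)
      obtain ⟨P, hP⟩ := exists_sylow_of_zpowers hG ha (by norm_num)
      have hPH : (P : Subgroup G) ≤ H := hP ▸ Subgroup.zpowers_le.mpr haH
      let P' := P.subtype hPH
      have hm := card_sylow_modEq_one 11 H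
      rw [P'.card_eq_index_normalizer] at hm
      change (Subgroup.normalizer ((P' : Subgroup H) : Set H)).index ≡ 1 [MOD 11] at hm
      have hi := (Subgroup.normalizer ((P' : Subgroup H) : Set H)).card_mul_index
      have hc55 : Nat.card (Subgroup.normalizer ((P' : Subgroup H) : Set H)) = 55 := by
        rw [show (P' : Subgroup H) = (P : Subgroup G).subgroupOf H from rfl, ← Subgroup.subgroupOf_normalizer_eq hPH, hP,
          Nat.card_congr (Subgroup.subgroupOfEquivOfLe hN).toEquiv, norm11 hG ha]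
      rw [hc55] at hi
      have hd : Nat.card H ∣ 7920 := card_eq hG ▸ Subgroup.card_subgroup_dvd_card H
      have hd' : Nat.card H ∈ Nat.divisors 7920 := Nat.mem_divisors.2 ⟨hd, by norm_num⟩
      have kk : ∀ h ∈ Nat.divisors 7920, 55 ∣ h → 8 ∣ h → h / 55 % 11 = 1 → h = 7920 := by decide +kernel
      refine Subgroup.eq_top_of_card_eq H ?_
      rw [card_eq hG, kk _ hd' (Nat.Coprime.mul_dvd_of_dvd_of_dvd (show Nat.Coprime 5 11 by norm_num) d5 d11) d8]
      rw [← hi, Nat.mul_div_cancel_left _ (by norm_num)]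
      exact hm
    have hrange : f.range ≤ setSystemAut (blockSet L) := by
      rw [MonoidHom.range_eq_map, ← htop, hH, MonoidHom.map_closure, Subgroup.closure_le]
      rintro _ ⟨z, hz, rfl⟩
      simp only [Set.mem_insert_iff, Set.mem_singleton_iff] at hz
      rcases hz with rfl | rfl | rfl
      · exact preserves_of_list _ shiftFun hfa (hinv _ (by simp))
      · exact preserves_of_list _ tripleFun hfb (hinv _ (by simp))
      · exact preserves_of_list _ (candFun i) hfc (hinv _ (by simp))
    obtain ⟨⟨-, hcard⟩, -⟩ := CfsgTwelve.aut11 (ZMod.card 11) hS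
    have heq : f.range = setSystemAut (blockSet L) := Subgroup.eq_of_le_of_card_ge hrange (by
      rw [hcard, ← Nat.card_congr (MonoidHom.ofInjective hf).toEquiv, card_eq hG])
    exact heq
  have ha' : a ∈ Subgroup.closure ({a, b, c} : Set G) := Subgroup.subset_closure (by simp)
  have hb' : b ∈ Subgroup.closure ({a, b, c} : Set G) := Subgroup.subset_closure (by simp)
  have hc' : c ∈ Subgroup.closure ({a, b, c} : Set G) := Subgroup.subset_closure (by simp)
  have cm : ∀ x y : G, ⇑(f (x * y)) = ⇑(f x) ∘ ⇑(f y) := fun x y => by rw [map_mul]; rfl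
  fin_cases i
  · exact absurd bad_word0 (fun h => hbad (a * c * b) _ (by simp only [cm, hfa, hfb, hfc]; rfl) 21 (by norm_num) h.1 h.2)
  · refine ⟨1, blocks1, c, Or.inl ⟨rfl, rfl⟩, blocks1_steiner, ?_, hfc⟩
    exact key blocks1 (a * a * c) _ blocks1_steiner blocks1_inv (mul_mem (mul_mem ha' ha') hc')
      (by simp only [cm, hfa, hfc]; rfl) eight_word1.1 eight_word1.2
  · exact absurd bad_word2 (fun h => hbad (a * a * c) _ (by simp only [cm, hfa, hfc]; rfl) 21 (by norm_num) h.1 h.2)
  · refine ⟨3, blocks3, c, Or.inr ⟨rfl, rfl⟩, blocks3_steiner, ?_, hfc⟩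
    exact key blocks3 (a * b * c) _ blocks3_steiner blocks3_inv (mul_mem (mul_mem ha' hb') hc')
      (by simp only [cm, hfa, hfb, hfc]; rfl) eight_word3.1 eight_word3.2
  · exact absurd bad_word4 (fun h => hbad (a * a * c) _ (by simp only [cm, hfa, hfc]; rfl) 21 (by norm_num) h.1 h.2)
  · exact absurd bad_word5 (fun h => hbad (a * c) _ (by simp only [cm, hfa, hfc]; rfl) 14 (by norm_num) h.1 h.2)
  · exact absurd bad_word6 (fun h => hbad (a * b * c * a * c) _ (by simp only [cm, hfa, hfb, hfc]; rfl) 21 (by norm_num) h.1 h.2)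
  · exact absurd bad_word7 (fun h => hbad (a * a * c * b) _ (by simp only [cm, hfa, hfb, hfc]; rfl) 14 (by norm_num) h.1 h.2)
  · exact absurd bad_word8 (fun h => hbad (a * b * c) _ (by simp only [cm, hfa, hfb, hfc]; rfl) 28 (by norm_num) h.1 h.2)
  · exact absurd bad_word9 (fun h => hbad (a * a * b * c) _ (by simp only [cm, hfa, hfb, hfc]; rfl) 28 (by norm_num) h.1 h.2)

end CfsgLib.DegreeEleven
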