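/-
Non-solvable transitive permutation groups of degree eleven.
-/
import Cfsg.Agent.Lib.DegreeEleven.Gens
import Cfsg.Agent.S0676
import Cfsg.Agent.S3681
import Cfsg.Agent.S0498
import Mathlib.GroupTheory.GroupAction.Jordan
import Mathlib.GroupTheory.Perm.Centralizer

set_option autoImplicit false
set_option linter.style.haveILetI false
set_option linter.unusedSectionVars false

namespace CfsgLib.DegreeEleven

open Equiv Cfsg CfsgSimpleM11
open scoped Pointwise

theorem factorial_eleven : Nat.factorial 11 = 39916800 := by decide +kernel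

variable {α : Type*} [Fintype α] [DecidableEq α] (hα : Fintype.card α = 11) (G : Subgroup (Perm α))
  [MulAction.IsPretransitive G α]

include hα

theorem card_dvd : Nat.card G ∣ 39916800 := by
  have := Subgroup.card_subgroup_dvd_card G
  rwa [Nat.card_perm, Nat.card_eq_fintype_card (α := α), hα, factorial_eleven] at this

theorem eleven_dvd : 11 ∣ Nat.card G := by
  obtain ⟨a⟩ : Nonempty α := Fintype.card_pos_iff.1 (by omega)
  rw [← hα, ← Nat.card_eq_fintype_card, ← MulAction.index_stabilizer_of_transitive G a]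
  exact Subgroup.index_dvd_card _

theorem primitive : MulAction.IsPreprimitive G α :=
  MulAction.IsPreprimitive.of_prime_card (by rw [Nat.card_eq_fintype_card, hα]; norm_num)

theorem sylow_card (P : Sylow 11 G) : Nat.card (P : Subgroup G) = 11 := by
  haveI : Fact (Nat.Prime 11) := ⟨by norm_num⟩
  rw [P.card_eq_multiplicity]
  have h1 : (Nat.card G).factorization 11 ≤ 1 := by
    have := (Nat.factorization_le_iff_dvd Nat.card_pos.ne' (by norm_num)).mpr (card_dvd hα G) 11
    have e : (39916800 : ℕ).factorization 11 = 1 := by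
      rw [show (39916800 : ℕ) = 11 ^ 1 * 3628800 by norm_num,
        Nat.factorization_mul (by norm_num) (by norm_num), Finsupp.add_apply,
        Nat.Prime.factorization_pow (by norm_num), Finsupp.single_eq_same,
        Nat.factorization_eq_zero_of_not_dvd (by norm_num)]
    omega
  have h2 : 0 < (Nat.card G).factorization 11 :=
    (Fact.out : Nat.Prime 11).factorization_pos_of_dvd Nat.card_pos.ne' (eleven_dvd hα G)
  rw [show (Nat.card G).factorization 11 = 1 by omega, pow_one]

/-- The normaliser of a Sylow subgroup has order `11 d` with `d ∣ 10`; if `d = 1` the group has order 11. -/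
theorem normalizer_card (P : Sylow 11 G) :
    ∃ d, d ∣ 10 ∧ Nat.card (Subgroup.normalizer ((P : Subgroup G) : Set G)) = 11 * d ∧
      (d = 1 → Nat.card G = 11) := by
  classical
  haveI : Fact (Nat.Prime 11) := ⟨by norm_num⟩
  have hPc := sylow_card hα G P
  haveI : IsCyclic (P : Subgroup G) := isCyclic_of_prime_card hPc
  obtain ⟨σ, hσ⟩ := IsCyclic.exists_generator (α := (P : Subgroup G))
  have hσ11 : orderOf (σ : G) = 11 := by rw [Subgroup.orderOf_coe, orderOf_eq_card_of_forall_mem_zpowers hσ, hPc]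
  obtain ⟨e, he1, he⟩ := CfsgLib.CycleCoords.exists_coords hα G (σ : G) hσ11
  set N := Subgroup.normalizer ((P : Subgroup G) : Set G) with hN
  let ι : N →* MulAut (P : Subgroup G) := Subgroup.normalizerMonoidHom (P : Subgroup G)
  have hker : ∀ n : N, ι n = 1 → (n : G) ∈ (P : Subgroup G) := fun n hn => by
    have hc : (n : G) * (σ : G) * (n : G)⁻¹ = (σ : G) := congrArg Subtype.val (DFunLike.congr_fun hn σ)
    have hcomm : Commute (n : G) (σ : G) := mul_inv_eq_iff_eq_mul.mp hc
    obtain ⟨x₀, hx₀⟩ := e.surjective ((n : G) • e 0)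
    have : (n : G) = (σ : G) ^ (x₀.val : ℤ) := by
      refine Subtype.ext (Equiv.ext fun y => ?_)
      obtain ⟨x, rfl⟩ := e.surjective y
      show (n : G) • e x = (σ : G) ^ (x₀.val : ℤ) • e x
      have hx : e x = (σ : G) ^ (x.val : ℤ) • e 0 := by
        rw [he, zero_add, Int.cast_natCast, ZMod.natCast_zmod_val]
      conv_lhs => rw [hx, ← mul_smul, (hcomm.zpow_right _).eq, mul_smul, ← hx₀, he]
      rw [he]
      simp [add_comm]
    rw [this]
    exact Subgroup.zpow_mem _ σ.2 _
  have hkerc : Nat.card ι.ker ∣ 11 := by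
    refine dvd_trans ?_ hPc.dvd
    rw [← Nat.card_congr (ι.ker.equivMapOfInjective N.subtype N.subtype_injective).toEquiv.symm]
    exact Subgroup.card_dvd_of_le (by rintro _ ⟨n, hn, rfl⟩; exact hker n hn)
  have h1 : Nat.card N = Nat.card ι.ker * Nat.card ι.range := by
    rw [← ι.ker.card_mul_index, Subgroup.index_ker]
  have h2 : Nat.card ι.range ∣ 10 := by
    have h3 := Subgroup.card_subgroup_dvd_card ι.range
    rwa [IsCyclic.card_mulAut, hPc, Nat.totient_prime (Fact.out : Nat.Prime 11)] at h3
  have h11N : 11 ∣ Nat.card N := hPc ▸ Subgroup.card_dvd_of_le Subgroup.le_normalizer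
  rcases (Nat.dvd_prime (Fact.out : Nat.Prime 11)).mp hkerc with e' | e'
  · rw [e', one_mul] at h1
    rw [h1] at h11N
    exact absurd (Nat.le_of_dvd (by norm_num) (h11N.trans h2)) (by norm_num)
  refine ⟨_, h2, by rw [h1, e'], fun hd => ?_⟩
  have hNP : N = (P : Subgroup G) :=
    (Subgroup.eq_of_le_of_card_ge Subgroup.le_normalizer (by rw [h1, e', hd, hPc])).symm
  have hPC : N ≤ Subgroup.centralizer ((P : Subgroup G) : Set G) := by
    rw [hNP]
    intro x hx y hy
    exact congrArg Subtype.val ((IsCyclic.commutative (α := (P : Subgroup G))).is_comm.comm ⟨y, hy⟩ ⟨x, hx⟩)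
  have hcompl := MonoidHom.ker_transferSylow_isComplement' P hPC
  set K := (MonoidHom.transferSylow P hPC).ker
  have hmul : Nat.card K * 11 = Nat.card G := by rw [← hPc]; exact hcompl.card_mul
  by_cases hK : K = ⊥
  · rw [hK, Subgroup.card_bot, one_mul] at hmul; exact hmul.symm
  exfalso
  haveI := primitive hα G
  haveI : MulAction.IsPretransitive K α := MulAction.IsQuasiPreprimitive.isPretransitive_of_normal (fun h => hK (by
    rw [eq_bot_iff]
    intro m hm
    refine Subgroup.mem_bot.mpr (Subtype.ext (Equiv.ext fun x => ?_))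
    have hx : x ∈ MulAction.fixedPoints K α := by rw [h]; trivial
    exact hx ⟨m, hm⟩))
  obtain ⟨a⟩ : Nonempty α := Fintype.card_pos_iff.1 (by omega)
  have h11K : 11 ∣ Nat.card K := by
    rw [← hα, ← Nat.card_eq_fintype_card, ← MulAction.index_stabilizer_of_transitive K a]
    exact Subgroup.index_dvd_card _
  have : 11 * 11 ∣ 39916800 := ((mul_dvd_mul h11K dvd_rfl).trans (dvd_of_eq hmul)).trans (card_dvd hα G)
  norm_num at this

theorem exists_conj_mem {p k : ℕ} [Fact p.Prime] (hk : (39916800 : ℕ).factorization p = k) (hd : p ^ k ∣ Nat.card G)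
    {c : Perm α} (hc : orderOf c = p) : ∃ g : Perm α, g * c * g⁻¹ ∈ G := by
  obtain ⟨Kb, hKb⟩ := Sylow.exists_subgroup_card_pow_prime (G := G) p hd
  set K := Kb.map G.subtype
  have hKc : Nat.card K = p ^ (Nat.card (Perm α)).factorization p := by
    rw [Subgroup.card_map_of_injective G.subtype_injective, hKb, Nat.card_perm, Nat.card_eq_fintype_card, hα,
      factorial_eleven, hk]
  obtain ⟨P, hP⟩ := (IsPGroup.of_card (n := 1) (by rw [Nat.card_zpowers, hc, pow_one]) :
    IsPGroup p (Subgroup.zpowers c)).exists_le_sylow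
  obtain ⟨g, hg⟩ := MulAction.exists_smul_eq (Perm α) P (Sylow.ofCard K hKc)
  refine ⟨g, ?_⟩
  have h1 : g * c * g⁻¹ ∈ ((g • P : Sylow p (Perm α)) : Subgroup (Perm α)) := by
    rw [Sylow.coe_subgroup_smul]
    exact ⟨c, hP (Subgroup.mem_zpowers c), rfl⟩
  rw [hg, Sylow.coe_ofCard] at h1
  exact Subgroup.map_subtype_le _ h1

/-- Jordan's bound from a cycle of prime length. -/
theorem jordan_bound {p k : ℕ} [Fact p.Prime] (hk : (39916800 : ℕ).factorization p = k) (hd : p ^ k ∣ Nat.card G)
    (hp : p + 1 < 11) (hp3 : 2 < p) : 39916800 ∣ Nat.card G * (p - 1).factorial := by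
  classical
  have hpp : p.Prime := Fact.out
  obtain ⟨c, hc⟩ := (Equiv.Perm.exists_with_cycleType_iff α (m := {p})).mpr
    ⟨by simp [hα]; omega, by simp [hpp.two_le]⟩
  have hco : orderOf c = p := by rw [← Equiv.Perm.lcm_cycleType, hc]; simp
  obtain ⟨g, hg⟩ := exists_conj_mem hα G hk hd hco
  set z := g * c * g⁻¹ with hz
  have hzt : z.cycleType = {p} := by rw [hz, Equiv.Perm.cycleType_conj, hc]
  have hzc : z.IsCycle := Equiv.Perm.card_cycleType_eq_one.mp (by rw [hzt]; simp)
  have hzs : z.support.card = p := by rw [← Equiv.Perm.sum_cycleType, hzt]; simp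
  set s : Set α := (z.support : Set α)ᶜ with hs
  have hsc : s.ncard = 10 - p + 1 := by
    rw [hs, Set.ncard_compl, Set.ncard_coe_finset, hzs, Nat.card_eq_fintype_card, hα]; omega
  haveI := Equiv.Perm.isPretransitive_of_isCycle_mem hzc hg
  haveI hprim : MulAction.IsPreprimitive (fixingSubgroup G s) (SubMulAction.ofFixingSubgroup G s) :=
    MulAction.IsPreprimitive.of_prime_card (by
      rw [show Nat.card (SubMulAction.ofFixingSubgroup G s) = Set.ncard (sᶜ : Set α) from Nat.card_coe_set_eq _, hs,
        compl_compl, Set.ncard_coe_finset, hzs]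
      exact hpp)
  have hM := (primitive hα G).isMultiplyPreprimitive hsc (by rw [Nat.card_eq_fintype_card, hα]; omega) hprim
  obtain ⟨t, -, ht⟩ := (Set.univ : Set α).exists_subset_card_eq (n := 10 - p + 2)
    (by rw [Set.ncard_univ, Nat.card_eq_fintype_card, hα]; omega)
  have h := hM.isMultiplyPretransitive.index_of_fixingSubgroup_mul ht
  rw [Nat.card_eq_fintype_card, hα, factorial_eleven, show 11 - (10 - p + 2) = p - 1 by omega] at h
  rw [← h]
  exact mul_dvd_mul (Subgroup.index_dvd_card _) dvd_rfl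

/-- The main case. -/
theorem simple_of_fiftyfive (hA : ¬ alternatingGroup α ≤ G) (hne : ¬ Group.IsSolvable G) (P : Sylow 11 G)
    (hN : Nat.card (Subgroup.normalizer ((P : Subgroup G) : Set G)) = 55) :
    (Nat.card G = 660 ∨ Nat.card G = 7920) ∧ IsSimpleGroup G := by
  classical
  haveI : Fact (Nat.Prime 11) := ⟨by norm_num⟩
  have hPc := sylow_card hα G P
  set N := Subgroup.normalizer ((P : Subgroup G) : Set G) with hNdef
  have hmul : N.index * 55 = Nat.card G := by rw [mul_comm, ← hN]; exact N.card_mul_index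
  have hmod : N.index % 11 = 1 := by
    have := card_sylow_modEq_one 11 G
    rw [P.card_eq_index_normalizer] at this
    exact this
  have hn1 : N.index ≠ 1 := fun e => hne (by
    rw [e, one_mul] at hmul
    exact CfsgLib.CharTheory.isSolvable_of_card_two_primes (show Nat.Prime 5 by norm_num) (show Nat.Prime 11 by norm_num)
      (show Nat.card G = 5 ^ 1 * 11 ^ 1 by rw [← hmul]; norm_num))
  have hb : Nat.card G * 720 ≤ 39916800 := by
    have := Cfsg.Agent.S3681.bochert G (primitive hα G) hA
    rw [hα, factorial_eleven] at this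
    exact this
  have h25 : ¬ 5 ^ 2 ∣ Nat.card G := fun h => by
    haveI : Fact (Nat.Prime 5) := ⟨by norm_num⟩
    have := Nat.le_of_dvd (Nat.mul_pos Nat.card_pos (by decide)) (jordan_bound hα G (p := 5) (k := 2) (by
      rw [show (39916800 : ℕ) = 5 ^ 2 * 1596672 by norm_num, Nat.factorization_mul (by norm_num) (by norm_num),
        Finsupp.add_apply, Nat.Prime.factorization_pow (by norm_num), Finsupp.single_eq_same,
        Nat.factorization_eq_zero_of_not_dvd (by norm_num)]) h (by norm_num) (by norm_num))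
    rw [show Nat.factorial (5 - 1) = 24 by rfl] at this
    omega
  have h7 : ¬ 7 ^ 1 ∣ Nat.card G := fun h => by
    haveI : Fact (Nat.Prime 7) := ⟨by norm_num⟩
    have h1 := jordan_bound hα G (p := 7) (k := 1) (by
      rw [show (39916800 : ℕ) = 7 ^ 1 * 5702400 by norm_num, Nat.factorization_mul (by norm_num) (by norm_num),
        Finsupp.add_apply, Nat.Prime.factorization_pow (by norm_num), Finsupp.single_eq_same,
        Nat.factorization_eq_zero_of_not_dvd (by norm_num)]) h (by norm_num) (by norm_num)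
    rw [show Nat.factorial (7 - 1) = 720 by rfl] at h1
    have := Nat.le_of_dvd (Nat.mul_pos Nat.card_pos (by decide)) h1
    omega
  have hnd : N.index ∣ 725760 := by
    have h1 : N.index * 55 ∣ 725760 * 55 := by rw [hmul]; exact card_dvd hα G
    exact (Nat.mul_dvd_mul_iff_right (by norm_num)).mp h1
  have hn : N.index = 12 ∨ N.index = 144 := by
    have h5' : ¬ 5 ∣ N.index := fun ⟨t, ht⟩ => h25 ⟨t * 11, by rw [← hmul, ht]; ring⟩
    have h7' : ¬ 7 ∣ N.index := fun ⟨t, ht⟩ => h7 ⟨t * 55, by rw [← hmul, ht]; ring⟩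
    have key : ∀ t < 92, (11 * t + 1) ∣ 725760 → ¬ 5 ∣ 11 * t + 1 → ¬ 7 ∣ 11 * t + 1 →
        11 * t + 1 = 1 ∨ 11 * t + 1 = 12 ∨ 11 * t + 1 = 144 := by decide +kernel
    obtain ⟨t, ht⟩ : ∃ t, N.index = 11 * t + 1 := ⟨N.index / 11, by omega⟩
    rw [ht] at hnd h5' h7' hn1 ⊢
    exact (key t (by omega) hnd h5' h7').resolve_left hn1
  refine ⟨by omega, ?_⟩
  haveI : Nontrivial G := Finite.one_lt_card_iff_nontrivial.mp (by omega)
  refine IsSimpleGroup.mk fun M hM => ?_
  by_contra hcon
  rw [not_or] at hcon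
  haveI := hM
  haveI := primitive hα G
  haveI hMt : MulAction.IsPretransitive M α := MulAction.IsQuasiPreprimitive.isPretransitive_of_normal (fun h => hcon.1 (by
    rw [eq_bot_iff]
    intro m hm
    refine Subgroup.mem_bot.mpr (Subtype.ext (Equiv.ext fun x => ?_))
    have hx : x ∈ MulAction.fixedPoints M α := by rw [h]; trivial
    exact hx ⟨m, hm⟩))
  set M' := M.map G.subtype with hM'
  haveI : MulAction.IsPretransitive M' α := ⟨fun x y => by
    obtain ⟨m, hm⟩ := MulAction.exists_smul_eq M x y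
    exact ⟨⟨((m : G) : Perm α), ⟨m, m.2, rfl⟩⟩, hm⟩⟩
  have hMc : Nat.card M' = Nat.card M := Subgroup.card_map_of_injective G.subtype_injective
  -- the Sylow subgroup lies in `M`
  have h11M : 11 ∣ Nat.card M := hMc ▸ eleven_dvd hα M'
  have hPM : (P : Subgroup G) ≤ M := by
    obtain ⟨x, hx⟩ := exists_prime_orderOf_dvd_card' (G := M) 11 h11M
    obtain ⟨R, hR⟩ := (IsPGroup.of_card (n := 1) (by rw [Nat.card_zpowers, Subgroup.orderOf_coe, hx, pow_one]) :
      IsPGroup 11 (Subgroup.zpowers (x : G))).exists_le_sylow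
    obtain ⟨g, hg⟩ := MulAction.exists_smul_eq G R P
    have hR' : (R : Subgroup G) = Subgroup.zpowers (x : G) := (Subgroup.eq_of_le_of_card_ge hR (by
      rw [Nat.card_zpowers, Subgroup.orderOf_coe, hx, sylow_card hα G R])).symm
    rw [← hg, Sylow.coe_subgroup_smul, hR']
    rintro _ ⟨y, hy, rfl⟩
    exact hM.conj_mem y (Subgroup.zpowers_le.mpr x.2 hy) g
  by_cases hNM : N ≤ M
  · refine hcon.2 ?_
    have h := Sylow.normalizer_sup_eq_top (P.subtype hPM)
    rw [Sylow.coe_subtype, Subgroup.map_subgroupOf_eq_of_le hPM] at h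
    rwa [sup_eq_right.mpr hNM] at h
  -- otherwise the normaliser in `M` is the Sylow subgroup
  let Q := P.subtype hPM
  have hQc : Nat.card (Subgroup.normalizer ((Q : Subgroup M) : Set M)) = 11 := by
    rw [Sylow.coe_subtype, ← Subgroup.subgroupOf_normalizer_eq hPM, ← hNdef,
      ← Nat.card_congr (Subgroup.equivMapOfInjective _ _ M.subtype_injective).toEquiv.symm, Subgroup.subgroupOf_map_subtype]
    have hd : Nat.card ↥(N ⊓ M) ∣ 55 := hN ▸ Subgroup.card_dvd_of_le inf_le_left
    have hlt : Nat.card ↥(N ⊓ M) < 55 := by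
      refine lt_of_le_of_ne (Nat.le_of_dvd (by norm_num) hd) fun e => hNM ?_
      have := Subgroup.eq_of_le_of_card_ge (inf_le_left : N ⊓ M ≤ N) (by rw [e, hN])
      exact this ▸ inf_le_right
    have h11 : 11 ∣ Nat.card ↥(N ⊓ M) := hPc ▸ Subgroup.card_dvd_of_le (le_inf Subgroup.le_normalizer hPM)
    obtain ⟨t, ht⟩ := h11
    have : t ∣ 5 := by
      rw [ht] at hd
      exact (Nat.mul_dvd_mul_iff_left (a := 11) (by norm_num)).mp hd
    rcases (Nat.dvd_prime (by norm_num : Nat.Prime 5)).mp this with rfl | rfl <;> omega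
  let φ := M.equivMapOfInjective G.subtype G.subtype_injective
  let Q' : Sylow 11 M' := Q.mapSurjective (f := φ.toMonoidHom) φ.surjective
  obtain ⟨d, -, hdc, hd1⟩ := normalizer_card hα M' Q'
  have hQ' : Nat.card (Subgroup.normalizer ((Q' : Subgroup M') : Set M')) = 11 := by
    refine Eq.trans ?_ hQc
    have := Subgroup.map_equiv_normalizer_eq (Q : Subgroup M) φ
    rw [show ((Q' : Subgroup M')) = (Q : Subgroup M).map φ.toMonoidHom from rfl, ← this,
      Subgroup.card_map_of_injective φ.injective]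
  have hMc' : Nat.card M = 11 := by
    rw [← hMc]; exact hd1 (by omega)
  have hMP : (P : Subgroup G) = M := Subgroup.eq_of_le_of_card_ge hPM (by rw [hPc, hMc'])
  refine hn1 ?_
  rw [Subgroup.index_eq_one, hNdef, Subgroup.normalizer_eq_top_iff, hMP]
  exact hM

end CfsgLib.DegreeEleven
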